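import Cfsg.Agent.H909.Mon.Def

/-!
# Kernel checks for the Monster row of S2454 (helper909): the classes `j = 1, 2, 3, 4` of pairs
-/

set_option autoImplicit false
set_option maxRecDepth 100000
set_option Elab.async false

namespace Cfsg.Agent.H909.Mon

open Cfsg.Agent.MonsterX.OrdChk

theorem ok1_1 : cert 1 (tc [38]) 0 2048 = true := by decide +kernel

theorem ok1_2 : cert 1 (tc [38, 39]) 0 0 = true := by decide +kernel

theorem ok1_3 : cert 1 (cat (tc [38]) (tc [38, 39])) 0 0 = true := by decide +kernel

theorem ok2_1 : cert 2 (tc [1]) 0 2048 = true := by decide +kernel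

theorem ok2_2 : cert 2 (tc [42, 39]) 0 0 = true := by decide +kernel

theorem ok2_3 : cert 2 (cat (tc [1]) (tc [42, 39])) 0 0 = true := by decide +kernel

theorem ok3_1 : cert 3 (tc [37]) 0 256 = true := by decide +kernel

theorem ok3_2 : cert 3 (tc [42]) 256 256 = true := by decide +kernel

theorem ok3_3 : cert 3 (cat (tc [37]) (tc [42])) 256 0 = true := by decide +kernel

theorem ok4_1 : cert 4 (tc []) 0 0 = true := by decide +kernel

theorem ok4_2 : cert 4 (tc [36]) 0 0 = true := by decide +kernel

theorem ok4_3 : cert 4 (cat (tc []) (tc [36])) 0 0 = true := by decide +kernel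

end Cfsg.Agent.H909.Mon
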