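import Cfsg.Agent.H909.Mon.Def

/-!
# Kernel checks for the Monster row of S2454 (helper909): the classes `j = 9, 10, 11` of pairs
-/

set_option autoImplicit false
set_option maxRecDepth 100000
set_option Elab.async false

namespace Cfsg.Agent.H909.Mon

open Cfsg.Agent.MonsterX.OrdChk

theorem ok9_1 : cert 9 (tc []) 0 256 = true := by decide +kernel

theorem ok9_2 : cert 9 (tc [42]) 0 256 = true := by decide +kernel

theorem ok9_3 : cert 9 (cat (tc []) (tc [42])) 256 0 = true := by decide +kernel

theorem ok10_1 : cert 10 (tc [36]) 256 0 = true := by decide +kernel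

theorem ok10_2 : cert 10 (tc [1]) 256 0 = true := by decide +kernel

theorem ok10_3 : cert 10 (cat (tc [36]) (tc [1])) 256 0 = true := by decide +kernel

theorem ok11_1 : cert 11 (tc []) 256 0 = true := by decide +kernel

theorem ok11_2 : cert 11 (tc [43]) 0 256 = true := by decide +kernel

theorem ok11_3 : cert 11 (cat (tc []) (tc [43])) 0 256 = true := by decide +kernel

end Cfsg.Agent.H909.Mon
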