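import Cfsg.Agent.H909.Mon.Def
import Cfsg.Agent.MonsterX.BaseVec

/-!
# Kernel checks for the Monster row of S2454 (helper909): an element of order 23 of `C(z)`

* `w3` : a product of three `C`-conjugates of the letter `27`;
* `c27` : a word which conjugates `t₀` to the letter `27`;
* `wd` : the product of `[27, 45]` and a conjugate; its powers 4, 5, 6 are not trivial.
-/

set_option autoImplicit false
set_option maxRecDepth 100000
set_option Elab.async false

namespace Cfsg.Agent.H909.Mon

open Cfsg.Agent.Monster.VecEngine Cfsg.Agent.Monster.VecSpace Cfsg.Agent.MonsterX.Space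
open Cfsg.Agent.MonsterX.ProgTable Cfsg.Agent.MonsterX.GensT Cfsg.Agent.MonsterX.ProgBase
open Cfsg.Agent.MonsterX.Conc Cfsg.Agent.MonsterX.Model Cfsg.Agent.MonsterX.InstData
open Cfsg.Agent.MonsterX.OrdChk Cfsg.Agent.MonsterX.InstEval Cfsg.Agent.MonsterX.BaseVec

/-- the product of three transpositions -/
def w3 : List ℕ := [27, 38, 39, 27, 39, 44, 39, 37, 27, 43, 39]

/-- a power of a word -/
noncomputable def rep (w : List ℕ) (n : ℕ) : List ℕ :=
  Nat.rec (motive := fun _ => List ℕ) [] (fun _ ih => cat w ih) n

/-- `W c27 * t₀ * (W c27)⁻¹` is the letter `27` -/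
def c27 : List ℕ := [42, 37, 39, 43, 36, 39, 43, 43, 42, 40]

/-- the product of two involutions of type 2B -/
def wd : List ℕ := [27, 45, 39, 37, 41, 39, 27, 45, 39, 40, 43, 39]

/-- The planes of the 24 lines of the base (without the lane `s`). -/
noncomputable def yB : Pl :=
  .cons (bits [0, 192, 832, 2880, 8640, 26048, 62466, 62468, 62470, 62471, 62476, 62480])
    (.cons (bits [64, 192, 1600, 2880, 14784, 26048, 62467, 62468, 62469, 62471, 62478, 62480])
    (.cons (bits [0, 64, 192, 5056, 8640, 14784, 26048, 62469, 62472, 62476, 62480, 62528])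
    (.cons (bits [0, 64, 192, 62470, 62471, 62477, 62478, 62528, 65536])
    (.cons (bits [384, 832, 1600, 2880, 5056, 8640, 14784, 26048, 65536])
    (.sgn (bits []))))))

theorem val3 : formIs 8 w3 a0B 64 64 = true := by decide +kernel

theorem rel27 : check ([27].map prog) (up 6 vB) ((tc c27).map prog) (up 6 vB) = true := by decide +kernel

theorem big4 : formIs 8 (rep wd 4) a0B 256 0 = true := by decide +kernel

theorem big5 : formIs 8 (rep wd 5) a0B 256 256 = true := by decide +kernel

theorem big6 : formIs 8 (rep wd 6) a0B 256 0 = true := by decide +kernel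

end Cfsg.Agent.H909.Mon
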