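import Cfsg.Agent.H909.Mon.Lines
import Cfsg.Agent.MonsterU.Uncond
import Cfsg.Agent.MonsterP.EquivOf
import Cfsg.Agent.H253.TwoComm.FixTt
import Cfsg.Agent.H253.TwoComm.Cent
import Cfsg.Agent.H847.MonDeg
import Cfsg.Agent.H773.Pw.Spor

/-!
# The Monster row of S2454 (helper909): the element of order 23 or 46 and the end

`pw_model` : in the model every element is a product of 60 `p`-elements, `p` any prime divisor of the order.
-/

set_option autoImplicit false
set_option maxRecDepth 100000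

namespace Cfsg.Agent.H909.Mon

open Cfsg.Agent.Monster.VecEngine Cfsg.Agent.Monster.VecSpace Cfsg.Agent.MonsterX Cfsg.Agent.MonsterX.Space
open Cfsg.Agent.MonsterX.ProgTable Cfsg.Agent.MonsterX.GensT Cfsg.Agent.MonsterX.ProgBase
open Cfsg.Agent.MonsterX.Conc Cfsg.Agent.MonsterX.Model Cfsg.Agent.MonsterX.InstData
open Cfsg.Agent.MonsterX.OrdChk Cfsg.Agent.MonsterX.InstEval Cfsg.Agent.MonsterX.ConcGrp
open Cfsg.Agent.MonsterX.MainPack Cfsg.Agent.MonsterX.MainBasic Cfsg.Agent.MonsterX.MainTrans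
open Cfsg.Agent.MonsterX.MainSimple
open Cfsg.Agent.H514.DP
open Subgroup (centralizer mem_centralizer_singleton_iff zpowers mem_zpowers)
open scoped Pointwise

/-! ### Centralizers of elements of the same prime order -/

section sylow

universe u

variable {X : Type u} [Group X] [Finite X]

theorem conj_of_not_sq {q : ℕ} (hq : q.Prime) (hq2 : ¬ q ^ 2 ∣ Nat.card X) {x y : X}
    (hx : orderOf x = q) (hy : orderOf y = q) : ∃ g : X, g * y * g⁻¹ ∈ zpowers x ∧ x ∈ zpowers (g * y * g⁻¹) := by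
  have hFq : Fact q.Prime := ⟨hq⟩
  have hxp : IsPGroup q (zpowers x) := IsPGroup.of_card (n := 1) (by rw [Nat.card_zpowers, hx, pow_one])
  have hyp : IsPGroup q (zpowers y) := IsPGroup.of_card (n := 1) (by rw [Nat.card_zpowers, hy, pow_one])
  obtain ⟨Q, hQ⟩ := hxp.exists_le_sylow
  obtain ⟨R, hR⟩ := hyp.exists_le_sylow
  obtain ⟨g, hg⟩ := MulAction.exists_smul_eq X R Q
  have hQx : (Q : Subgroup X) = zpowers x := by
    symm
    refine Subgroup.eq_of_le_of_card_ge hQ ?_
    obtain ⟨k, hk⟩ := IsPGroup.iff_card.1 Q.2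
    rw [hk, Nat.card_zpowers, hx]
    have h4 : k < 2 := by
      by_contra hk2
      refine hq2 ((Nat.pow_dvd_pow q (not_lt.1 hk2)).trans ?_)
      rw [← hk]; exact Subgroup.card_subgroup_dvd_card _
    calc q ^ k ≤ q ^ 1 := Nat.pow_le_pow_right hq.pos (by omega)
      _ = q := pow_one q
  have h5 : g * y * g⁻¹ ∈ zpowers x := by
    rw [← hQx, ← hg]
    have h1 : y ∈ (R : Subgroup X) := hR (mem_zpowers y)
    show _ ∈ (MulAut.conj g • (R : Subgroup X))
    exact Subgroup.smul_mem_pointwise_smul y (MulAut.conj g) _ h1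
  refine ⟨g, h5, ?_⟩
  have h6 : orderOf (g * y * g⁻¹) = q := by
    have := MulEquiv.orderOf_eq (MulAut.conj g) y
    rw [MulAut.conj_apply] at this
    rw [this, hy]
  have h7 : zpowers (g * y * g⁻¹) = zpowers x := by
    refine Subgroup.eq_of_le_of_card_ge (by rw [Subgroup.zpowers_le]; exact h5) ?_
    rw [Nat.card_zpowers, Nat.card_zpowers, hx, h6]
  rw [h7]; exact mem_zpowers x

omit [Finite X] in
theorem card_cent_conj (g y : X) :
    Nat.card (centralizer ({g * y * g⁻¹} : Set X)) = Nat.card (centralizer ({y} : Set X)) := by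
  symm
  refine Nat.card_congr (((MulAut.conj g).toEquiv).subtypeEquiv fun x => ?_)
  show x ∈ centralizer ({y} : Set X) ↔ g * x * g⁻¹ ∈ centralizer ({g * y * g⁻¹} : Set X)
  rw [mem_centralizer_singleton_iff, mem_centralizer_singleton_iff]
  constructor
  · intro h
    calc g * x * g⁻¹ * (g * y * g⁻¹) = g * (x * y) * g⁻¹ := by group
      _ = g * y * g⁻¹ * (g * x * g⁻¹) := by rw [h]; group
  · intro h
    calc x * y = g⁻¹ * (g * x * g⁻¹ * (g * y * g⁻¹)) * g := by group
      _ = y * x := by rw [h]; group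

theorem card_cent_of_not_sq {q : ℕ} (hq : q.Prime) (hq2 : ¬ q ^ 2 ∣ Nat.card X) {x y : X}
    (hx : orderOf x = q) (hy : orderOf y = q) :
    Nat.card (centralizer ({x} : Set X)) = Nat.card (centralizer ({y} : Set X)) := by
  obtain ⟨g, h1, h2⟩ := conj_of_not_sq hq hq2 hx hy
  rw [← card_cent_conj g y]
  have h3 : centralizer ({x} : Set X) = centralizer ({g * y * g⁻¹} : Set X) := by
    ext c
    rw [mem_centralizer_singleton_iff, mem_centralizer_singleton_iff]
    constructor
    · intro h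
      obtain ⟨k, hk⟩ := Subgroup.mem_zpowers_iff.1 h1
      rw [← hk]
      exact (Commute.zpow_right h k : _)
    · intro h
      obtain ⟨k, hk⟩ := Subgroup.mem_zpowers_iff.1 h2
      rw [← hk]
      exact (Commute.zpow_right h k : _)
  rw [h3]

end sylow

/-! ### The elements of the model -/

theorem tt : t * t = 1 := Subtype.ext t₀_sq

theorem zz_sq : zz * zz = 1 := Subtype.ext Instance.mGroup.z_sq

theorem zz_ne : zz ≠ 1 := fun h => Instance.mGroup.z_ne (congrArg Subtype.val h)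

theorem zz_comm {g : MG} (h : (g : LG) ∈ M.C) : g * zz = zz * g := Subtype.ext (Instance.mGroup.z_comm _ h)

/-- the letter `27` -/
noncomputable def e27 : MG := ⟨W [27], FieldsP.W_mem_G' (by decide)⟩

/-- a conjugating element of `C` -/
noncomputable def g2 : MG := ⟨W [39, 44], FieldsP.W_mem_G' (by decide)⟩

/-- a conjugating element of `C` -/
noncomputable def g3 : MG := ⟨W [43, 39], FieldsP.W_mem_G' (by decide)⟩

/-- a conjugating element -/
noncomputable def gd : MG := ⟨W [39, 40, 43, 39], FieldsP.W_mem_G' (by decide)⟩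

/-- the element `w3` -/
noncomputable def w3G : MG := ⟨W w3, FieldsP.W_mem_G' (by decide)⟩

theorem e27_zz : e27 * zz = zz * e27 := zz_comm (ConcGrp.W_mem_C (by decide))

theorem g2_zz : g2 * zz = zz * g2 := zz_comm (ConcGrp.W_mem_C (by decide))

theorem g3_zz : g3 * zz = zz * g3 := zz_comm (ConcGrp.W_mem_C (by decide))

theorem w3_zz : w3G * zz = zz * w3G := zz_comm w3_mem

theorem e27_conj : ∃ g : MG, g * t * g⁻¹ = e27 := by
  have h1 : W [27] = W (tc c27) :=
    InstanceFinal.pack.eq_of_check (by decide) (by decide +kernel) rel27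
  have hl : Lt c27 := lt_of_all (by decide)
  rw [W_tc hl] at h1
  exact ⟨⟨W c27, FieldsP.W_mem_G' hl⟩, Subtype.ext h1.symm⟩

theorem e27_sq : e27 * e27 = 1 := by
  obtain ⟨g, hg⟩ := e27_conj
  rw [← hg]
  calc g * t * g⁻¹ * (g * t * g⁻¹) = g * (t * t) * g⁻¹ := by group
    _ = 1 := by rw [tt]; group

theorem W_inv_of {a b : List ℕ} (ha : Lt a) (h : ivA a [] = b) : W b = (W a)⁻¹ := by
  rw [← h, W_ivA Instance.inv _ _ ha, W_nil, one_mul]

theorem w3G_eq : w3G = g3 * e27 * g3⁻¹ * (g2 * e27 * g2⁻¹) * e27 := by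
  apply Subtype.ext
  show W w3 = W [43, 39] * W [27] * (W [43, 39])⁻¹ * (W [39, 44] * W [27] * (W [39, 44])⁻¹) * W [27]
  rw [← W_inv_of (a := [43, 39]) (b := [39, 37]) (lt_of_all (by decide)) (by decide +kernel),
    ← W_inv_of (a := [39, 44]) (b := [38, 39]) (lt_of_all (by decide)) (by decide +kernel)]
  have h : w3 = [27] ++ ([38, 39] ++ ([27] ++ ([39, 44] ++ ([39, 37] ++ ([27] ++ [43, 39]))))) := rfl
  rw [h]
  simp only [W_append, mul_assoc]

/-- the involution `z * e27` -/
noncomputable def z27 : MG := zz * e27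

theorem z27_sq : z27 * z27 = 1 := by
  unfold z27
  calc zz * e27 * (zz * e27) = zz * (e27 * zz) * e27 := by group
    _ = (zz * zz) * (e27 * e27) := by rw [e27_zz]; group
    _ = 1 := by rw [zz_sq, e27_sq, one_mul]

theorem wd_coe : ((gd * z27 * gd⁻¹ * z27 : MG) : LG) = W wd := by
  show W [39, 40, 43, 39] * (z * W [27]) * (W [39, 40, 43, 39])⁻¹ * (z * W [27]) = W wd
  rw [← W_inv_of (a := [39, 40, 43, 39]) (b := [39, 37, 41, 39]) (lt_of_all (by decide)) (by decide +kernel)]
  have h : wd = [27, 45] ++ ([39, 37, 41, 39] ++ ([27, 45] ++ [39, 40, 43, 39])) := rfl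
  have h2 : W [27, 45] = z * W [27] := by
    rw [show [27, 45] = [27] ++ [45] from rfl, W_append, W_single]
    rfl
  rw [h]
  simp only [W_append, mul_assoc, h2]

theorem wd_pow_ne {k : ℕ} {c c' : ℤ} (h : formIs 8 (rep wd k) a0B c c' = true) (hc : c ≠ 2048) :
    (gd * z27 * gd⁻¹ * z27) ^ k ≠ 1 := by
  intro h1
  have h2 : W wd ^ k = 1 := by
    rw [← wd_coe]
    exact congrArg Subtype.val h1
  have h3 := ne_of_form h (by norm_num; exact hc)
  rw [W_rep, h2] at h3
  exact h3 rfl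

theorem z27_ne : z27 ≠ 1 := by
  intro h
  apply wd_pow_ne big4 (by decide)
  rw [h]
  simp

theorem six' (g : MG) : orderOf (t * (g * t * g⁻¹)) ≤ 6 :=
  six Instance.mGroup Instance.mRep Instance.mLat InstanceFinal.mOrbit Instance.mTrans
    InstanceFinal.mExtra.order_le g

theorem fin_model : Finite MG := G_finite InstanceFinal.mOrbit

theorem classes' (u : MG) (h : u * u = 1) (h1 : u ≠ 1) : (∃ h : MG, h * zz * h⁻¹ = u) ∨ ∃ h : MG, h * t * h⁻¹ = u :=
  Cfsg.Agent.MonsterU.Uncond.all.classes u h h1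

/-- `z * e27` is of type 2B -/
theorem z27_conj : ∃ g : MG, g * zz * g⁻¹ = z27 := by
  rcases classes' z27 z27_sq z27_ne with h | ⟨h, hh⟩
  · exact h
  exfalso
  have hfin := fin_model
  have h1 : gd * z27 * gd⁻¹ * z27 = (h * t⁻¹) * (t * ((h⁻¹ * gd * h) * t * (h⁻¹ * gd * h)⁻¹)) * (h * t⁻¹)⁻¹ := by
    rw [← hh]; group
  have h2 : orderOf (gd * z27 * gd⁻¹ * z27) ≤ 6 := by
    rw [h1, ← MulAut.conj_apply, MulEquiv.orderOf_eq]
    exact six' _
  have h0 : 0 < orderOf (gd * z27 * gd⁻¹ * z27) := orderOf_pos _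
  have h3 := pow_orderOf_eq_one (gd * z27 * gd⁻¹ * z27)
  have n4 := wd_pow_ne big4 (by decide)
  have n5 := wd_pow_ne big5 (by decide)
  have n6 := wd_pow_ne big6 (by decide)
  have key : ∀ n, n ∣ 4 ∨ n ∣ 5 ∨ n ∣ 6 → (gd * z27 * gd⁻¹ * z27) ^ n ≠ 1 := by
    rintro n (⟨m, hm⟩ | ⟨m, hm⟩ | ⟨m, hm⟩) he
    · exact n4 (by rw [hm, pow_mul, he, one_pow])
    · exact n5 (by rw [hm, pow_mul, he, one_pow])
    · exact n6 (by rw [hm, pow_mul, he, one_pow])
  refine key _ ?_ h3
  generalize orderOf (gd * z27 * gd⁻¹ * z27) = n at h2 h0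
  interval_cases n <;> decide

/-- `z * t₀` is conjugate to `t₀` -/
theorem zt_conj : ∃ q : MG, q * t * q⁻¹ = zz * t := by
  have h1 : ∃ q ∈ M.Q, q * M.t₀ ≠ M.t₀ * q := by
    by_contra hno
    push Not at hno
    rcases Instance.mGroup.Q_center _ Instance.mRep.t₀_mem (fun y hy => (hno y hy).symm) with h | h
    · exact Instance.mRep.t₀_ne h
    · exact Instance.mRep.t₀_ne_z h
  obtain ⟨q, hq, hne⟩ := h1
  have h2 := (Instance.mGroup.Q_comm q hq _ Instance.mRep.t₀_mem).resolve_left hne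
  have h3 := Instance.mGroup.z_comm q (Instance.mGroup.Q_le hq)
  have h4 := Instance.mGroup.z_comm _ (Instance.mGroup.Q_le Instance.mRep.t₀_mem)
  refine ⟨⟨q, mem_G_of_Q hq⟩, Subtype.ext ?_⟩
  show q * M.t₀ * q⁻¹ = M.z * M.t₀
  calc q * M.t₀ * q⁻¹ = M.t₀ * (q * M.z) * q⁻¹ := by rw [h2]; group
    _ = M.t₀ * M.z := by rw [h3]; group
    _ = M.z * M.t₀ := h4

theorem zw3_eq : zz * w3G = g3 * z27 * g3⁻¹ * (g2 * z27 * g2⁻¹) * z27 := by
  have c2 := g2_zz
  have c3 := g3_zz
  have ce := e27_zz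
  have hz := zz_sq
  have k1 : g3 * z27 * g3⁻¹ = zz * (g3 * e27 * g3⁻¹) := by
    unfold z27
    calc g3 * (zz * e27) * g3⁻¹ = (g3 * zz) * e27 * g3⁻¹ := by group
      _ = zz * (g3 * e27 * g3⁻¹) := by rw [c3]; group
  have k2 : g2 * z27 * g2⁻¹ = (g2 * e27 * g2⁻¹) * zz := by
    unfold z27
    have c2' : zz * g2⁻¹ = g2⁻¹ * zz := by
      rw [eq_inv_mul_iff_mul_eq, ← mul_assoc, c2, mul_assoc, mul_inv_cancel, mul_one]
    calc g2 * (zz * e27) * g2⁻¹ = g2 * (e27 * zz) * g2⁻¹ := by rw [ce]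
      _ = g2 * e27 * (zz * g2⁻¹) := by group
      _ = _ := by rw [c2']; group
  rw [k1, k2, w3G_eq]
  unfold z27
  calc zz * (g3 * e27 * g3⁻¹ * (g2 * e27 * g2⁻¹) * e27) =
      zz * (g3 * e27 * g3⁻¹) * (g2 * e27 * g2⁻¹) * 1 * e27 := by group
    _ = zz * (g3 * e27 * g3⁻¹) * (g2 * e27 * g2⁻¹) * (zz * zz) * e27 := by rw [hz]
    _ = _ := by group

/-- both elements are products of 20 `p`-elements -/
theorem pe_both {p : ℕ} {i : MG} (h : i * i = 1) (h1 : i ≠ 1) (hi : PE p 4 i) : PE p 20 w3G ∧ PE p 20 (zz * w3G) := by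
  rcases classes' i h h1 with ⟨g, hg⟩ | ⟨g, hg⟩
  · -- 2B
    have hz : PE p 4 zz := by
      have := hi.conj g⁻¹
      rwa [← hg, show g⁻¹ * (g * zz * g⁻¹) * g⁻¹⁻¹ = zz by group] at this
    obtain ⟨k, hk⟩ := z27_conj
    have h27 : PE p 4 z27 := by
      rw [← hk]
      exact hz.conj k
    have h12 : PE p 12 (zz * w3G) := by
      rw [zw3_eq]
      exact ((h27.conj g3).mul (h27.conj g2)).mul h27
    refine ⟨?_, h12.mono (by norm_num)⟩
    have h16 := hz.mul h12
    rw [← mul_assoc, zz_sq, one_mul] at h16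
    exact h16.mono (by norm_num)
  · -- 2A
    have ht : PE p 4 t := by
      have := hi.conj g⁻¹
      rwa [← hg, show g⁻¹ * (g * t * g⁻¹) * g⁻¹⁻¹ = t by group] at this
    obtain ⟨k, hk⟩ := e27_conj
    have h27 : PE p 4 e27 := by
      rw [← hk]
      exact ht.conj k
    have h12 : PE p 12 w3G := by
      rw [w3G_eq]
      exact ((h27.conj g3).mul (h27.conj g2)).mul h27
    obtain ⟨q, hq⟩ := zt_conj
    have hzt : PE p 4 (zz * t) := by
      rw [← hq]
      exact ht.conj q
    have h8 := hzt.mul ht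
    rw [mul_assoc, tt, mul_one] at h8
    exact ⟨h12.mono (by norm_num), (h8.mul h12).mono (by norm_num)⟩

/-! ### The centralizer -/

theorem card_model : Nat.card MG = 808017424794512875886459904961710757005754368000000000 :=
  Cfsg.Agent.MonsterP.EquivOf.isM_model.2

/-- an element of order 23 in `C(z)` times `z` -/
theorem cent_bound {y : MG} (hy : y * zz = zz * y) (h23 : y ^ 23 = 1) (h1 : y ≠ 1) :
    Nat.card (centralizer ({zz * y} : Set MG)) ≤ 184 := by
  have hfin := fin_model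
  have A := Cfsg.Agent.MonsterU.Uncond.all
  obtain ⟨eta, pi, c⟩ := Cfsg.Agent.MonsterU.ModelChart.chart A.hG A.hR A.hL A.hO A.hT
  have hp : Nat.Prime 23 := by norm_num
  have hFp : Fact (Nat.Prime 23) := ⟨hp⟩
  refine (Cfsg.Agent.H253.TC.card_cent_mul_le zz_sq hy (r := 23) (by decide) h23).trans ?_
  obtain ⟨y₁, hy₁, h23', hcard, -⟩ := Cfsg.Agent.H253.TC.BM.exists_23 c
  have hsq : ¬ 23 ^ 2 ∣ Nat.card (centralizer ({zz} : Set MG)) := by
    intro h
    have h2 := h.trans (Subgroup.card_subgroup_dvd_card _)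
    rw [card_model] at h2
    revert h2
    norm_num
  have hy1 : y₁ ≠ 1 := by
    intro e
    have h3 : centralizer ({(⟨y₁, mem_centralizer_singleton_iff.2 hy₁⟩ : centralizer ({zG A.hG} : Set MG))} :
        Set (centralizer ({zG A.hG} : Set MG))) = ⊤ := by
      rw [eq_top_iff]
      intro x _
      rw [mem_centralizer_singleton_iff]
      apply Subtype.ext
      show (x : MG) * y₁ = y₁ * x
      rw [e, mul_one, one_mul]
    rw [h3, Subgroup.card_top] at hcard
    have h4 := Nat.card_le_card_of_surjective _ c.pi_surj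
    have h5 := A.hG.card
    omega
  have o1 : orderOf (⟨y, mem_centralizer_singleton_iff.2 hy⟩ : centralizer ({zz} : Set MG)) = 23 :=
    orderOf_eq_prime (Subtype.ext h23) (fun e => h1 (congrArg Subtype.val e))
  have o2 : orderOf (⟨y₁, mem_centralizer_singleton_iff.2 hy₁⟩ : centralizer ({zz} : Set MG)) = 23 :=
    orderOf_eq_prime (Subtype.ext h23') (fun e => hy1 (congrArg Subtype.val e))
  rw [card_cent_of_not_sq hp hsq o1 o2]
  exact hcard

theorem w3G_ne : w3G ≠ 1 := by
  intro h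
  have h1 := ne_of_form val3 (by norm_num)
  rw [show W w3 = 1 from congrArg Subtype.val h] at h1
  exact h1 rfl

theorem zw3G_ne : zz * w3G ≠ 1 := by
  intro h
  have h2 : w3G = zz := by
    have := eq_inv_of_mul_eq_one_right h
    rw [this]
    exact inv_eq_of_mul_eq_one_left zz_sq
  have h1 := ne_of_form val3 (by norm_num)
  rw [show W w3 = M.z from congrArg Subtype.val h2] at h1
  apply h1
  rw [← comm_t (g := M.z) zz.2]
  exact (Instance.mGroup.z_comm _ (Instance.mGroup.Q_le Instance.mRep.t₀_mem)).symm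

/-- one of the two elements has a small centralizer -/
theorem exists_small : Nat.card (centralizer ({w3G} : Set MG)) ≤ 184 ∨
    Nat.card (centralizer ({zz * w3G} : Set MG)) ≤ 184 := by
  rcases w3_pow with h | h
  · right
    exact cent_bound w3_zz (Subtype.ext h) w3G_ne
  · left
    have h1 : w3G ^ 23 = zz := Subtype.ext h
    have hc : Commute zz w3G := w3_zz.symm
    have h2 : (zz * w3G) ^ 23 = 1 := by
      rw [hc.mul_pow, h1, show (23 : ℕ) = 2 * 11 + 1 from rfl, pow_succ, pow_mul, _root_.pow_two, zz_sq, one_pow, one_mul,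
        zz_sq]
    have h3 := cent_bound (y := zz * w3G) (by
      calc zz * w3G * zz = zz * (w3G * zz) := by group
        _ = zz * (zz * w3G) := by rw [w3_zz]) h2 zw3G_ne
    rwa [← mul_assoc, zz_sq, one_mul] at h3

/-! ### The theorem -/

theorem minDeg_model : MinDeg MG 196883 := by
  intro k ρ hρ hk
  have := Cfsg.Agent.H847.MonDeg.bound_model (V := Fin k → ℂ) ρ (Cfsg.Agent.H121.Chr.exists_ne_one ρ hρ hk)
  simpa using this

/-- **The model.** -/
theorem pw_model {p : ℕ} (hp : p.Prime) (hd : p ∣ Nat.card MG) : PW p 60 MG := by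
  have hfin := fin_model
  have hs : IsSimpleGroup MG := Cfsg.Agent.MonsterP.EquivOf.isM_model.1
  have hna : ¬ ∀ a b : MG, a * b = b * a := by
    intro h
    obtain ⟨q, hq⟩ := zt_conj
    apply zz_ne
    have h1 : q * t * q⁻¹ = t := by rw [h q t]; group
    rw [h1] at hq
    exact (mul_eq_right.1 hq.symm)
  have := Fact.mk hp
  obtain ⟨x, hx⟩ := exists_prime_orderOf_dvd_card' (G := MG) p hd
  have hxp : IsPE p x := IsPE.of_prime hx
  have hx1 : x ≠ 1 := by
    rintro rfl
    rw [orderOf_one] at hx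
    exact hp.one_lt.ne hx
  have h1 : ∃ g : MG, (g * x * g⁻¹) * t ≠ t * (g * x * g⁻¹) := by
    by_contra hno
    push Not at hno
    have h2 : Subgroup.normalClosure ({x} : Set MG) = ⊤ := by
      rcases Subgroup.normalClosure_normal.eq_bot_or_eq_top (H := Subgroup.normalClosure ({x} : Set MG)) with h | h
      · exfalso
        apply hx1
        have : x ∈ Subgroup.normalClosure ({x} : Set MG) := Subgroup.subset_normalClosure (Set.mem_singleton x)
        rw [h] at this
        exact Subgroup.mem_bot.1 this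
      · exact h
    have h3 : Subgroup.normalClosure ({x} : Set MG) ≤ centralizer ({t} : Set MG) := by
      rw [Subgroup.normalClosure, Subgroup.closure_le]
      intro y hy
      obtain ⟨a, ha, hay⟩ := Group.mem_conjugatesOfSet_iff.1 hy
      rw [Set.mem_singleton_iff] at ha
      subst ha
      obtain ⟨g, hg⟩ := isConj_iff.1 hay
      rw [SetLike.mem_coe, mem_centralizer_singleton_iff, ← hg]
      exact hno g
    rw [h2] at h3
    obtain ⟨q, hq⟩ := zt_conj
    have h4 := mem_centralizer_singleton_iff.1 (h3 (Subgroup.mem_top q))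
    apply zz_ne
    have h5 : q * t * q⁻¹ = t := by rw [h4]; group
    rw [h5] at hq
    exact (mul_eq_right.1 hq.symm)
  obtain ⟨g, hg⟩ := h1
  obtain ⟨i, hi, hi1, hi4⟩ := exists_inv (hxp.conj g) hg
  obtain ⟨k1, k2⟩ := pe_both hi hi1 hi4
  rcases exists_small with h | h
  · exact Cfsg.Agent.H773.Pw.pw_of_pe hna k1 minDeg_model h (k := 3) le_rfl (by norm_num) le_rfl
  · exact Cfsg.Agent.H773.Pw.pw_of_pe hna k2 minDeg_model h (k := 3) le_rfl (by norm_num) le_rfl

end Cfsg.Agent.H909.Mon
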